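import Mathlib
import Cfsg.Agent.CPS.Maps

/-!
# S5309 (project GFC), piece 0: unpacking a central product of fusion systems

For a central product `D` over `U` of `E₁` over `T₁` and `E₂` over `T₂` (`IsCentralProductOf E₁ E₂ D`):
`T₁, T₂ ≤ U`, `T₁` and `T₂` commute elementwise, `U = T₁ ⊔ T₂`, the maps of `D` are the products `φ₁ * φ₂`
of a map of `E₁` and a map of `E₂` on the two projections, and `D` is saturated when `E₁` and `E₂` are.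
-/

set_option autoImplicit false

namespace Cfsg.Agent.GFC

open Cfsg Cfsg.FusionSystem Cfsg.Agent.Lead Cfsg.Agent.CPS

variable {Ω : Type*} [Group Ω] {S : Subgroup Ω} {T₁ T₂ U : Subgroup Ω}

/-- A homomorphism on `T₁ × T₂` that is the inclusion on both factors is the multiplication map. -/
theorem gfc_cp_theta_apply {θ : ↥(T₁.prod T₂) →* Ω}
    (h1 : ∀ (x : Ω) (hx : ((x, 1) : Ω × Ω) ∈ T₁.prod T₂), θ ⟨(x, 1), hx⟩ = x)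
    (h2 : ∀ (y : Ω) (hy : ((1, y) : Ω × Ω) ∈ T₁.prod T₂), θ ⟨(1, y), hy⟩ = y)
    (x : ↥(T₁.prod T₂)) : θ x = (x : Ω × Ω).1 * (x : Ω × Ω).2 := by
  have hx1 : (x : Ω × Ω).1 ∈ T₁ := (Subgroup.mem_prod.mp x.2).1
  have hx2 : (x : Ω × Ω).2 ∈ T₂ := (Subgroup.mem_prod.mp x.2).2
  have hm1 : (((x : Ω × Ω).1, 1) : Ω × Ω) ∈ T₁.prod T₂ := Subgroup.mem_prod.mpr ⟨hx1, T₂.one_mem⟩
  have hm2 : ((1, (x : Ω × Ω).2) : Ω × Ω) ∈ T₁.prod T₂ := Subgroup.mem_prod.mpr ⟨T₁.one_mem, hx2⟩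
  have hx : x = (⟨_, hm1⟩ : ↥(T₁.prod T₂)) * ⟨_, hm2⟩ := by
    apply Subtype.ext
    show (x : Ω × Ω) = ((x : Ω × Ω).1, 1) * (1, (x : Ω × Ω).2)
    ext <;> simp
  calc θ x = θ ((⟨_, hm1⟩ : ↥(T₁.prod T₂)) * ⟨_, hm2⟩) := by rw [← hx]
    _ = (x : Ω × Ω).1 * (x : Ω × Ω).2 := by rw [map_mul, h1, h2]

/-- The two factors of a central product commute elementwise. -/
theorem gfc_cp_comm' {θ : ↥(T₁.prod T₂) →* Ω}
    (h1 : ∀ (x : Ω) (hx : ((x, 1) : Ω × Ω) ∈ T₁.prod T₂), θ ⟨(x, 1), hx⟩ = x)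
    (h2 : ∀ (y : Ω) (hy : ((1, y) : Ω × Ω) ∈ T₁.prod T₂), θ ⟨(1, y), hy⟩ = y) : CpsComm T₁ T₂ := by
  intro x hx y hy
  have hm1 : ((x, 1) : Ω × Ω) ∈ T₁.prod T₂ := Subgroup.mem_prod.mpr ⟨hx, T₂.one_mem⟩
  have hm2 : ((1, y) : Ω × Ω) ∈ T₁.prod T₂ := Subgroup.mem_prod.mpr ⟨T₁.one_mem, hy⟩
  have hm : ((x, y) : Ω × Ω) ∈ T₁.prod T₂ := Subgroup.mem_prod.mpr ⟨hx, hy⟩
  have e1 : θ ⟨(x, y), hm⟩ = x * y := gfc_cp_theta_apply h1 h2 ⟨(x, y), hm⟩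
  have e2 : (⟨(x, y), hm⟩ : ↥(T₁.prod T₂)) = ⟨(1, y), hm2⟩ * ⟨(x, 1), hm1⟩ := by
    apply Subtype.ext
    show ((x, y) : Ω × Ω) = (1, y) * (x, 1)
    ext <;> simp
  rw [e2, map_mul, h1, h2] at e1
  exact e1.symm

variable {E₁ : FusionSystem T₁} {E₂ : FusionSystem T₂} {D : FusionSystem U}

theorem gfc_cp_comm (h : IsCentralProductOf E₁ E₂ D) : CpsComm T₁ T₂ := by
  obtain ⟨D₀, -, Z, θ, -, -, -, h1, h2, -⟩ := h
  exact gfc_cp_comm' h1 h2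

theorem gfc_cp_top (h : IsCentralProductOf E₁ E₂ D) : U = T₁ ⊔ T₂ := by
  have hc := gfc_cp_comm h
  obtain ⟨D₀, -, Z, θ, -, -, -, h1, h2, hfac⟩ := h
  have hθ : θ = cpsTheta hc := by
    ext x
    rw [gfc_cp_theta_apply h1 h2 x, cpsTheta_apply]
  rw [← hfac.2.2.1, hθ, cps_maps_range hc]

theorem gfc_cp_left_le (h : IsCentralProductOf E₁ E₂ D) : T₁ ≤ U := by
  rw [gfc_cp_top h]; exact le_sup_left

theorem gfc_cp_right_le (h : IsCentralProductOf E₁ E₂ D) : T₂ ≤ U := by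
  rw [gfc_cp_top h]; exact le_sup_right

/-- The maps of a central product are the products `φ₁ * φ₂`. -/
theorem gfc_cp_maps (h : IsCentralProductOf E₁ E₂ D) (P : Subgroup Ω) (φ : P →* Ω) :
    φ ∈ D.Hom P ↔ P ≤ T₁ ⊔ T₂ ∧
      ∃ φ₁ ∈ E₁.Hom (cpsProj T₁ T₂ P), ∃ φ₂ ∈ E₂.Hom (cpsProj T₂ T₁ P),
        ∀ (x₁ x₂ : Ω) (hx₁ : x₁ ∈ cpsProj T₁ T₂ P) (hx₂ : x₂ ∈ cpsProj T₂ T₁ P) (hx : x₁ * x₂ ∈ P),
          φ ⟨x₁ * x₂, hx⟩ = φ₁ ⟨x₁, hx₁⟩ * φ₂ ⟨x₂, hx₂⟩ := by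
  have hc := gfc_cp_comm h
  have hU := gfc_cp_top h
  subst hU
  obtain ⟨D₀, hprod, Z, θ, -, -, -, h1, h2, hfac⟩ := h
  have hθ : θ = cpsTheta hc := by
    ext x
    rw [gfc_cp_theta_apply h1 h2 x, cpsTheta_apply]
  subst hθ
  have hD₀ : ∀ (Q : Subgroup (Ω × Ω)) (ψ : Q →* Ω × Ω),
      ψ ∈ D₀.Hom Q ↔ ψ ∈ (Fusion.productSystem E₁ E₂).Hom Q := fun Q ψ =>
    (hprod Q ψ).trans (Fusion.productSystem_isProductSystem E₁ E₂ Q ψ).symm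
  refine cps_maps_iff E₁ E₂ hc D (fun P φ' => ?_) P φ
  rw [hfac.2.2.2 P φ']
  constructor
  · rintro ⟨hP, ψ, hψ, hind⟩
    exact ⟨hP, ψ, (hD₀ _ ψ).mp hψ, hind⟩
  · rintro ⟨hP, ψ, hψ, hind⟩
    exact ⟨hP, ψ, (hD₀ _ ψ).mpr hψ, hind⟩

/-- A central product of saturated systems over subgroups of a finite `p`-group is saturated. -/
theorem gfc_cp_saturated [Finite S] (p : ℕ) [Fact p.Prime] (hS : IsPGroup p S) (hT₁ : T₁ ≤ S)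
    (hT₂ : T₂ ≤ S) (hE₁ : E₁.IsSaturated p) (hE₂ : E₂.IsSaturated p)
    (h : IsCentralProductOf E₁ E₂ D) : D.IsSaturated p := by
  have : Finite T₁ := Fusion.finite_of_le hT₁
  have : Finite T₂ := Fusion.finite_of_le hT₂
  have : Finite ↥(T₁.prod T₂) := Finite.of_equiv _ (Subgroup.prodEquiv T₁ T₂).symm.toEquiv
  have hp₁ : IsPGroup p T₁ := hS.to_le hT₁
  have hp₂ : IsPGroup p T₂ := hS.to_le hT₂
  have hSprod : IsPGroup p ↥(T₁.prod T₂) := by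
    obtain ⟨a, ha⟩ := IsPGroup.iff_card.mp hp₁
    obtain ⟨b, hb⟩ := IsPGroup.iff_card.mp hp₂
    apply IsPGroup.of_card (n := a + b)
    rw [ProdSat.card_prod_subgroup, ha, hb, pow_add]
  obtain ⟨D₀, hprod, Z, θ, hZ, -, -, -, -, hfac⟩ := h
  have hD₀sat : D₀.IsSaturated p := ProdSat.main p hp₁ hp₂ E₁ E₂ hE₁ hE₂ D₀ hprod
  have hZc : D₀.IsCentral Z := ⟨hfac.1, fun P φ hφ => cps_maps_ext_central D₀ hZ hφ⟩
  have hZsc : D₀.StronglyClosed Z := Fusion.stronglyClosed_of_isCentral p hSprod D₀ hD₀sat hZc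
  exact Fusion.isSaturated_image p hSprod D₀ hD₀sat D θ
    (Fusion.isSurjectiveMorphism_of_isFactorSystem p hSprod D₀ hD₀sat Z hZsc θ D hfac)

end Cfsg.Agent.GFC
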