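import Mathlib
import Cfsg.Prelude.Def_FusionFitting
import Cfsg.Agent.GFC.CProd
import Cfsg.Agent.COP.Main
import Cfsg.Agent.Lead.FusionNormal

/-!
# S5309 (project GFC), piece 1: a generalized Fitting subsystem is a subsystem, centralized by its centre

* `gfc_sub`: a generalized Fitting subsystem `D` of a saturated `F` is a subsystem of `F`
  (a map of `D` is `x₁ x₂ ↦ q x₁ q⁻¹ φ₂(x₂)`; S5150 extends `φ₂` over `O_p(F)`, fixing it).
* `gfc_part1`: the first half of S5309.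
-/

set_option autoImplicit false

namespace Cfsg.Agent.GFC

open Cfsg Cfsg.FusionSystem Cfsg.Agent.Lead Cfsg.Agent.CPS

variable {Ω : Type*} [Group Ω] {S : Subgroup Ω}

/-- The group of a generalized Fitting subsystem lies in `S`. -/
theorem gfc_le [Finite S] (p : ℕ) (F : FusionSystem S) {U : Subgroup Ω} (D : FusionSystem U)
    (hD : D.IsGeneralizedFittingOf F p) : U ≤ S := by
  obtain ⟨T, E, hlay, hcp⟩ := hD
  rw [gfc_cp_top hcp]
  exact sup_le (Fusion.core_isNormal F).1 hlay.1.1.2.2.2.1.1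

/-- A generalized Fitting subsystem of a saturated system is a subsystem of it. -/
theorem gfc_sub [Finite S] (p : ℕ) [Fact p.Prime] (hS : IsPGroup p S) (F : FusionSystem S)
    (hF : F.IsSaturated p) {U : Subgroup Ω} (D : FusionSystem U)
    (hD : D.IsGeneralizedFittingOf F p) : D.IsSubsystemOf F := by
  obtain ⟨T, E, hlay, hcp⟩ := hD
  have hc : CpsComm F.core T := gfc_cp_comm hcp
  have hQS : F.core ≤ S := (Fusion.core_isNormal F).1
  intro P φ hφ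
  obtain ⟨hP, φ₁, hφ₁, φ₂, hφ₂, hform⟩ := (gfc_cp_maps hcp P φ).mp hφ
  obtain ⟨-, q, hq, hφ₁q⟩ := hφ₁
  obtain ⟨hφ₂F, hP₂C, hφ₂C, ψ, hψ, hψP, hψQ⟩ :=
    Cfsg.Agent.COP.cop_layer_le p hS F hF E hlay (Fusion.core_isNormal F) _ hφ₂
  -- the map `c_q ∘ ψ` on `P₂ ⊔ Q`
  have hψS : ∀ x : ↥(cpsProj T F.core P ⊔ F.core), ψ x ∈ S := fun x => Fusion.map_mem F hψ x
  have hχ : (conjHom S q).comp (ψ.codRestrict S hψS) ∈ F.Hom (cpsProj T F.core P ⊔ F.core) :=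
    F.comp_mem hψ (F.conj_mem le_rfl (hQS hq)) hψS
  -- every element of `P` is a product
  have hdecomp : ∀ x ∈ P, ∃ x₁ ∈ cpsProj F.core T P, ∃ x₂ ∈ cpsProj T F.core P, x = x₁ * x₂ := by
    intro x hx
    obtain ⟨a, ha, b, hb, hab⟩ := cps_hull_exists_mul_of_normalizes
      (A := F.core) (B := T) (fun a ha b hb => by
        rw [hc a ha b hb, mul_inv_cancel_right]; exact hb) (hP hx)
    refine ⟨a, ⟨ha, ?_⟩, b, ⟨hb, ?_⟩, hab⟩
    · have : a = x * b⁻¹ := by rw [hab, mul_inv_cancel_right]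
      rw [this]
      exact Subgroup.mul_mem _ (Subgroup.mem_sup_left hx) (Subgroup.mem_sup_right (T.inv_mem hb))
    · have : b = a⁻¹ * x := by rw [hab, inv_mul_cancel_left]
      rw [this]
      exact Subgroup.mul_mem _ (Subgroup.mem_sup_right (F.core.inv_mem ha)) (Subgroup.mem_sup_left hx)
  have hle : P ≤ cpsProj T F.core P ⊔ F.core := by
    intro x hx
    obtain ⟨x₁, hx₁, x₂, hx₂, rfl⟩ := hdecomp x hx
    exact Subgroup.mul_mem _ (Subgroup.mem_sup_right hx₁.1) (Subgroup.mem_sup_left hx₂)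
  have hres := Fusion.restrict_mem F hχ hle
  have heq : φ = ((conjHom S q).comp (ψ.codRestrict S hψS)).comp (Subgroup.inclusion hle) := by
    ext x
    obtain ⟨x₁, hx₁, x₂, hx₂, hx⟩ := hdecomp x.1 x.2
    have hxP : x₁ * x₂ ∈ P := hx ▸ x.2
    have e1 : x = ⟨x₁ * x₂, hxP⟩ := Subtype.ext hx
    rw [e1, hform x₁ x₂ hx₁ hx₂ hxP, hφ₁q]
    -- evaluate `ψ`
    have e2 : Subgroup.inclusion hle ⟨x₁ * x₂, hxP⟩ =
        Subgroup.inclusion (le_sup_right : F.core ≤ cpsProj T F.core P ⊔ F.core) ⟨x₁, hx₁.1⟩ *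
          Subgroup.inclusion (le_sup_left : cpsProj T F.core P ≤ cpsProj T F.core P ⊔ F.core)
            ⟨x₂, hx₂⟩ := Subtype.ext rfl
    have e3 : ψ (Subgroup.inclusion hle ⟨x₁ * x₂, hxP⟩) = x₁ * φ₂ ⟨x₂, hx₂⟩ := by
      rw [e2, map_mul, hψQ ⟨x₁, hx₁.1⟩, hψP ⟨x₂, hx₂⟩]
    show q * x₁ * q⁻¹ * φ₂ ⟨x₂, hx₂⟩ = q * ψ (Subgroup.inclusion hle ⟨x₁ * x₂, hxP⟩) * q⁻¹
    rw [e3]
    -- `q` commutes with `φ₂ x₂ ∈ C_S(Q)`
    have hcomm : φ₂ ⟨x₂, hx₂⟩ * q = q * φ₂ ⟨x₂, hx₂⟩ :=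
      (Subgroup.mem_centralizer_iff.mp (Subgroup.mem_inf.mp (hφ₂C ⟨x₂, hx₂⟩)).2 q hq).symm
    calc q * x₁ * q⁻¹ * φ₂ ⟨x₂, hx₂⟩ = q * x₁ * q⁻¹ * (φ₂ ⟨x₂, hx₂⟩ * q) * q⁻¹ := by group
      _ = q * x₁ * q⁻¹ * (q * φ₂ ⟨x₂, hx₂⟩) * q⁻¹ := by rw [hcomm]
      _ = q * (x₁ * φ₂ ⟨x₂, hx₂⟩) * q⁻¹ := by group
  rw [heq]
  exact hres

/-- The first half of S5309: the centre of a generalized Fitting subsystem `D` over `U` lies in `C_S(U)` and is
centralized by `D` inside `F`. -/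
theorem gfc_part1 [Finite S] (p : ℕ) [Fact p.Prime] (hS : IsPGroup p S) (F : FusionSystem S)
    (hF : F.IsSaturated p) {U : Subgroup Ω} (D : FusionSystem U)
    (hD : D.IsGeneralizedFittingOf F p) :
    D.center ≤ centralizerIn S U ∧ ∀ P : Subgroup Ω, D.Hom P ⊆ F.centralizerHom D.center P := by
  have hUS : U ≤ S := gfc_le p F D hD
  have hfinU : Finite U := Fusion.finite_of_le hUS
  have hsub := gfc_sub p hS F hF D hD
  have hcen := Fusion.center_isCentral D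
  have hZU : D.center ≤ U := hcen.1
  have hZC : D.center ≤ Subgroup.centralizer (U : Set Ω) := center_le_centralizer D
  have hUC : U ≤ centralizerIn S D.center := by
    intro u hu
    refine Subgroup.mem_inf.mpr ⟨hUS hu, ?_⟩
    rw [Subgroup.mem_centralizer_iff]
    intro z hz
    exact (Subgroup.mem_centralizer_iff.mp (hZC hz) u hu).symm
  refine ⟨fun z hz => Subgroup.mem_inf.mpr ⟨hUS (hZU hz), hZC hz⟩, fun P φ hφ => ?_⟩
  obtain ⟨ψ, hψ, hψP, hψZ⟩ := hcen.2 P φ hφ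
  refine ⟨hsub P hφ, (Fusion.src_le D hφ).trans hUC, fun x => hUC (Fusion.map_mem D hφ x), ψ,
    hsub _ hψ, hψP, hψZ⟩

end Cfsg.Agent.GFC
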