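import Mathlib
import Cfsg.Prelude.Def_FusionFitting
import Cfsg.Agent.GFC.Sub
import Cfsg.Agent.Lead.FusionCentral

/-!
# S5309 (project GFC): the second factor of a central product is a subsystem of it

For a central product `D` of `E₁` over `T₁` and `E₂` over `T₂` inside a finite `p`-group, with `E₂` saturated:
`T₁ ⊓ T₂ ≤ Z(E₂)` (`gfc_cp_inf_le_center_right`) and `E₂` is a subsystem of `D` (`gfc_cp_right_sub`); in
particular the layer is a subsystem of every generalized Fitting subsystem (`gfc_layer_sub`).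
-/

set_option autoImplicit false

namespace Cfsg.Agent.GFC

open Cfsg Cfsg.FusionSystem Cfsg.Agent.Lead Cfsg.Agent.CPS

variable {Ω : Type*} [Group Ω] {S : Subgroup Ω} {T₁ T₂ U : Subgroup Ω}
variable {E₁ : FusionSystem T₁} {E₂ : FusionSystem T₂} {D : FusionSystem U}

/-- In a central product, the intersection of the two groups is central in the second factor. -/
theorem gfc_cp_inf_le_center_right [Finite S] (p : ℕ) [Fact p.Prime] (hS : IsPGroup p S) (hT₁ : T₁ ≤ S)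
    (hT₂ : T₂ ≤ S) (hE₂ : E₂.IsSaturated p) (h : IsCentralProductOf E₁ E₂ D) :
    T₁ ⊓ T₂ ≤ E₂.center := by
  have : Finite T₁ := Fusion.finite_of_le hT₁
  have : Finite T₂ := Fusion.finite_of_le hT₂
  have : Finite ↥(T₁.prod T₂) := Finite.of_equiv _ (Subgroup.prodEquiv T₁ T₂).symm.toEquiv
  obtain ⟨D₀, hprod, Z, θ, hZ, -, -, h1, h2, hfac⟩ := h
  apply le_sSup
  show E₂.IsCentral (T₁ ⊓ T₂)
  rw [Fusion.isCentral_iff p (hS.to_le hT₂) E₂ hE₂]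
  refine ⟨inf_le_right, ?_⟩
  rintro x hx y ⟨φ, hφ, rfl⟩
  have hrT : ((x⁻¹, x) : Ω × Ω) ∈ T₁.prod T₂ := Subgroup.mem_prod.mpr ⟨T₁.inv_mem hx.1, hx.2⟩
  have hrZ : ((x⁻¹, x) : Ω × Ω) ∈ Z := by
    rw [← hfac.2.1 ⟨(x⁻¹, x), hrT⟩, gfc_cp_theta_apply h1 h2]
    show x⁻¹ * x = 1
    rw [inv_mul_cancel]
  have hRT : Subgroup.zpowers ((x⁻¹, x) : Ω × Ω) ≤ T₁.prod T₂ := Subgroup.zpowers_le.mpr hrT
  have hsnd : (Subgroup.zpowers ((x⁻¹, x) : Ω × Ω)).map (MonoidHom.snd Ω Ω) = Subgroup.zpowers x := by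
    rw [MonoidHom.map_zpowers]
    rfl
  obtain ⟨φ₂, hφ₂, hφ₂v⟩ := Fusion.exists_hom_of_eq E₂ hsnd.symm hφ
  have hfstle : (Subgroup.zpowers ((x⁻¹, x) : Ω × Ω)).map (MonoidHom.fst Ω Ω) ≤ T₁ := by
    rintro _ ⟨s, hs, rfl⟩
    exact (Subgroup.mem_prod.mp (hRT hs)).1
  have hφ₁ := Fusion.subtype_mem E₁ hfstle
  have hΨ : Fusion.prodHom (Subgroup.zpowers ((x⁻¹, x) : Ω × Ω)) _ φ₂ ∈
      D₀.Hom (Subgroup.zpowers ((x⁻¹, x) : Ω × Ω)) :=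
    (hprod _ _).mpr ⟨hRT, _, hφ₁, φ₂, hφ₂, Fusion.prodHom_isProdOf _ _ _⟩
  have hfix := cps_fix_of_le_center D₀ hZ hΨ ⟨(x⁻¹, x), Subgroup.mem_zpowers _⟩ hrZ
  have h3 := congrArg Prod.snd hfix
  have h4 : φ₂ ⟨x, Fusion.snd_mem_map _ ⟨(x⁻¹, x), Subgroup.mem_zpowers _⟩⟩ = x := h3
  rw [← hφ₂v x (Subgroup.mem_zpowers x)
    (Fusion.snd_mem_map _ ⟨(x⁻¹, x), Subgroup.mem_zpowers _⟩)]
  exact h4

/-- The second factor of a central product is a subsystem of it. -/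
theorem gfc_cp_right_sub [Finite S] (p : ℕ) [Fact p.Prime] (hS : IsPGroup p S) (hT₁ : T₁ ≤ S)
    (hT₂ : T₂ ≤ S) (hE₂ : E₂.IsSaturated p) (h : IsCentralProductOf E₁ E₂ D) :
    E₂.IsSubsystemOf D := by
  have hfin₂ : Finite T₂ := Fusion.finite_of_le hT₂
  have hc : CpsComm T₁ T₂ := gfc_cp_comm h
  have hW : T₁ ⊓ T₂ ≤ E₂.center := gfc_cp_inf_le_center_right p hS hT₁ hT₂ hE₂ h
  intro P φ hφ
  have hPT : P ≤ T₂ := Fusion.src_le E₂ hφ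
  rw [gfc_cp_maps h P φ]
  refine ⟨hPT.trans le_sup_right, ?_⟩
  -- the two projections
  have hproj₁ : cpsProj T₁ T₂ P ≤ T₁ ⊓ T₂ := by
    intro x hx
    refine ⟨hx.1, ?_⟩
    have : P ⊔ T₂ = T₂ := sup_eq_right.mpr hPT
    have h2 := hx.2
    rw [this] at h2
    exact h2
  have hproj₂ : cpsProj T₂ T₁ P = P ⊔ (T₁ ⊓ T₂) := by
    apply le_antisymm
    · intro x hx
      obtain ⟨a, ha, b, hb, hab⟩ := cps_hull_exists_mul_of_normalizes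
        (A := P) (B := T₁) (fun a ha b hb => by
          rw [← hc b hb a (hPT ha), mul_inv_cancel_right]; exact hb) hx.2
      have hbT₂ : b ∈ T₂ := by
        have : b = a⁻¹ * x := by rw [hab, inv_mul_cancel_left]
        rw [this]
        exact T₂.mul_mem (T₂.inv_mem (hPT ha)) hx.1
      rw [hab]
      exact Subgroup.mul_mem _ (Subgroup.mem_sup_left ha) (Subgroup.mem_sup_right ⟨hb, hbT₂⟩)
    · refine sup_le (fun x hx => ⟨hPT hx, Subgroup.mem_sup_left hx⟩)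
        (fun x hx => ⟨hx.2, Subgroup.mem_sup_right hx.1⟩)
  obtain ⟨ψ, hψ, hψP, hψW⟩ := cps_maps_ext_central E₂ hW hφ
  obtain ⟨ψ₂, hψ₂, hψ₂v⟩ := Fusion.exists_hom_of_eq E₂ hproj₂.symm hψ
  refine ⟨_, Fusion.subtype_mem E₁ (inf_le_left : cpsProj T₁ T₂ P ≤ T₁), ψ₂, hψ₂,
    fun x₁ x₂ hx₁ hx₂ hx => ?_⟩
  have hx₁W : x₁ ∈ T₁ ⊓ T₂ := hproj₁ hx₁
  have hx₂' : x₂ ∈ P ⊔ (T₁ ⊓ T₂) := by rw [← hproj₂]; exact hx₂
  rw [hψ₂v x₂ hx₂' hx₂]
  have e1 : φ ⟨x₁ * x₂, hx⟩ = ψ (Subgroup.inclusion le_sup_left ⟨x₁ * x₂, hx⟩) := (hψP _).symm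
  have e2 : Subgroup.inclusion (le_sup_left : P ≤ P ⊔ (T₁ ⊓ T₂)) ⟨x₁ * x₂, hx⟩ =
      Subgroup.inclusion (le_sup_right : T₁ ⊓ T₂ ≤ P ⊔ (T₁ ⊓ T₂)) ⟨x₁, hx₁W⟩ * ⟨x₂, hx₂'⟩ :=
    Subtype.ext rfl
  rw [e1, e2, map_mul, hψW ⟨x₁, hx₁W⟩]
  rfl

/-- The layer is a subsystem of every generalized Fitting subsystem built on it. -/
theorem gfc_layer_sub [Finite S] (p : ℕ) [Fact p.Prime] (hS : IsPGroup p S) (F : FusionSystem S)
    {T U : Subgroup Ω} {E : FusionSystem T} {D : FusionSystem U} (hlay : E.IsLayerOf F p)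
    (hcp : IsCentralProductOf (innerFusionSystem F.core) E D) : E.IsSubsystemOf D :=
  gfc_cp_right_sub p hS (Fusion.core_isNormal F).1 hlay.1.1.2.2.2.1.1 hlay.1.1.1 hcp

end Cfsg.Agent.GFC
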