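import Mathlib
import Cfsg.Prelude.Def_FusionFitting
import Cfsg.Agent.GFC.Sub
import Cfsg.Agent.Lead.FusionCentral
import Cfsg.Agent.Lead.FusionInnerSat

/-!
# S5309 (project GFC), piece 2(e): a subgroup of `Z(O_p(F))` is central in a generalized Fitting subsystem

`gfc_le_center`: if `Y ≤ O_p(F)` centralizes `O_p(F)` then `Y ≤ Z(D)` for every generalized Fitting subsystem `D`
of the saturated system `F` (a map of `D` on `⟨y⟩` is conjugation by an element of `O_p(F)` on the first coordinate).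
-/

set_option autoImplicit false

namespace Cfsg.Agent.GFC

open Cfsg Cfsg.FusionSystem Cfsg.Agent.Lead Cfsg.Agent.CPS

variable {Ω : Type*} [Group Ω] {S : Subgroup Ω}

/-- A generalized Fitting subsystem of a saturated system is saturated. -/
theorem gfc_saturated [Finite S] (p : ℕ) [Fact p.Prime] (hS : IsPGroup p S) (F : FusionSystem S)
    {U : Subgroup Ω} (D : FusionSystem U) (hD : D.IsGeneralizedFittingOf F p) : D.IsSaturated p := by
  obtain ⟨T, E, hlay, hcp⟩ := hD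
  have hQS : F.core ≤ S := (Fusion.core_isNormal F).1
  have hTS : T ≤ S := hlay.1.1.2.2.2.1.1
  have : Finite ↥F.core := Fusion.finite_of_le hQS
  exact gfc_cp_saturated p hS hQS hTS (Fusion.inner_isSaturated p F.core (hS.to_le hQS))
    hlay.1.1.1 hcp

/-- (2)(e): a subgroup of `Z(O_p(F))` lies in the centre of every generalized Fitting subsystem. -/
theorem gfc_le_center [Finite S] (p : ℕ) [Fact p.Prime] (hS : IsPGroup p S) (F : FusionSystem S)
    {U : Subgroup Ω} (D : FusionSystem U) (hD : D.IsGeneralizedFittingOf F p) {Y : Subgroup Ω}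
    (hYQ : Y ≤ F.core) (hYc : Y ≤ Subgroup.centralizer (F.core : Set Ω)) : Y ≤ D.center := by
  have hUS : U ≤ S := gfc_le p F D hD
  have hfinU : Finite U := Fusion.finite_of_le hUS
  have hsat := gfc_saturated p hS F D hD
  obtain ⟨T, E, hlay, hcp⟩ := hD
  have hYU : Y ≤ U := hYQ.trans (gfc_cp_left_le hcp)
  apply le_sSup
  show D.IsCentral Y
  rw [Fusion.isCentral_iff p (hS.to_le hUS) D hsat Y]
  refine ⟨hYU, ?_⟩
  rintro y hy w ⟨φ, hφ, rfl⟩
  obtain ⟨hP, φ₁, hφ₁, φ₂, hφ₂, hform⟩ := (gfc_cp_maps hcp _ φ).mp hφ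
  obtain ⟨-, q, hq, hφ₁q⟩ := hφ₁
  have hy₁ : y ∈ cpsProj F.core T (Subgroup.zpowers y) :=
    ⟨hYQ hy, Subgroup.mem_sup_left (Subgroup.mem_zpowers y)⟩
  have h1 : (1 : Ω) ∈ cpsProj T F.core (Subgroup.zpowers y) := Subgroup.one_mem _
  have hmem : y * 1 ∈ Subgroup.zpowers y := by rw [mul_one]; exact Subgroup.mem_zpowers y
  have e1 := hform y 1 hy₁ h1 hmem
  have e2 : (⟨y * 1, hmem⟩ : ↥(Subgroup.zpowers y)) = ⟨y, Subgroup.mem_zpowers y⟩ :=
    Subtype.ext (mul_one y)
  have e3 : φ₂ ⟨1, h1⟩ = 1 := map_one φ₂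
  rw [e2, hφ₁q, e3, mul_one] at e1
  rw [e1]
  have hcomm : q * y = y * q := Subgroup.mem_centralizer_iff.mp (hYc hy) q hq
  show q * y * q⁻¹ = y
  rw [hcomm, mul_inv_cancel_right]

end Cfsg.Agent.GFC
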