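import Mathlib
import Cfsg.Agent.S5127
import Cfsg.Agent.S5155
import Cfsg.Agent.S5148
import Cfsg.Agent.GFS.TopA
import Cfsg.Agent.Lead.FusionConj

/-!
# S5309 (project GFC), part (2)(a)-(d): a subgroup of `C_S(T)` centralized by the layer lies in `O_p(F)`

`E` over `T` the layer of the saturated system `F`, `Y ≤ C_S(T)` with `E ≤ C_F(Y)` and `Y` centralizing
`O_p(F)`.  Let `C = C_S(E)` be the largest such subgroup (S5127) and `D₁` the normal subsystem of `F` over `C`
inside `C_F(T)` (S5155).  A component of `D₁` is a component of `F`, hence a subsystem of `E`, hence lives over a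
subgroup of `T ∩ C_S(T) = Z(T)`, which is abelian: impossible (S5148).  So `D₁` has no component and is
constrained (S5146, passed in here as the hypothesis `h46` so that this file does not wait for it): some
`R` normal in `D₁` is `D₁`-centric.  `R ≤ O_p(D₁) ≤ O_p(F)`, and `Y ≤ C_C(R) ≤ R`.
-/

set_option autoImplicit false

namespace Cfsg.Agent.GFC

open Cfsg Cfsg.FusionSystem Cfsg.Agent.Lead Cfsg.Agent.GFS

variable {Ω : Type*} [Group Ω] {S : Subgroup Ω}

/-- A system over `V` that is a subsystem of a system over `T` has `V ≤ T`. -/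
theorem gfc_y_le_of_sub {V T : Subgroup Ω} {C : FusionSystem V} {E : FusionSystem T}
    (h : C.IsSubsystemOf E) : V ≤ T :=
  (E.le_of_mem (h V (C.conj_mem le_rfl V.one_mem))).1

/-- Part (2)(a)-(d) of S5309 with the direction "no component ⇒ constrained" of S5146 as a hypothesis. -/
theorem gfc_y_core [Finite S] (p : ℕ) [Fact p.Prime] (hS : IsPGroup p S) (F : FusionSystem S)
    (hF : F.IsSaturated p) {T : Subgroup Ω} (E : FusionSystem T) (hlay : E.IsLayerOf F p)
    (h46 : ∀ (C : Subgroup Ω) (D₁ : FusionSystem C), C ≤ S → D₁.IsSaturated p →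
      (¬ ∃ (V : Subgroup Ω) (C' : FusionSystem V), C'.IsComponentIn D₁ p) → D₁.IsConstrained p)
    {Y : Subgroup Ω} (hYT : Y ≤ centralizerIn S T)
    (hEY : ∀ P : Subgroup Ω, E.Hom P ⊆ F.centralizerHom Y P)
    (hYQ : Y ≤ Subgroup.centralizer (F.core : Set Ω)) : Y ≤ F.core := by
  obtain ⟨hEn, hcomp, -⟩ := hlay
  obtain ⟨C, hC1, hC2, hC3, -⟩ := Cfsg.Agent.S5127.result p hS F hF E hEn
  have hYC : Y ≤ C := hC3 Y hYT hEY
  obtain ⟨D₁, hD₁n, -⟩ := Cfsg.Agent.S5155.result p hS F hF E hEn C hC1 hC2 hC3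
  have hCS : C ≤ S := hC1.trans inf_le_left
  have hD₁sat : D₁.IsSaturated p := hD₁n.1.1
  have hcon : D₁.IsConstrained p := by
    apply h46 C D₁ hCS hD₁sat
    rintro ⟨V, C', hsub, hq⟩
    have hC'F : C'.IsComponentIn F p := ⟨IsSubnormalIn.step hsub hD₁n, hq⟩
    have hVT : V ≤ T := gfc_y_le_of_sub (hcomp V C' hC'F)
    have hVC : V ≤ C := gfc_y_le_of_sub (gfs_top_subsystem_of_subnormal hsub)
    have hVS : V ≤ S := hVC.trans hCS
    haveI : Finite V := Fusion.finite_of_le hVS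
    apply Cfsg.Agent.S5148.result p (hS.to_le hVS) C' hq
    refine ⟨⟨fun a b => ?_⟩⟩
    have ha : (a : Ω) ∈ T := hVT a.2
    have hb : (b : Ω) ∈ Subgroup.centralizer (T : Set Ω) := (hC1 (hVC b.2)).2
    exact Subtype.ext (hb (a : Ω) ha)
  obtain ⟨-, R, hRn, hRc⟩ := hcon
  have hRcore : R ≤ D₁.core := le_sSup (show R ∈ {Q : Subgroup Ω | D₁.IsNormal Q} from hRn)
  have hRQ : R ≤ F.core := hRcore.trans (gfs_core_le_core p hS F hF D₁ hD₁n)
  have hcR : centralizerIn C R ≤ R := hRc.2 R (Fusion.isConj_refl D₁ hRc.1)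
  intro y hy
  apply hRQ
  apply hcR
  exact ⟨hYC hy, Subgroup.centralizer_le (by exact_mod_cast hRQ) (hYQ hy)⟩

end Cfsg.Agent.GFC
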