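import Mathlib
import Cfsg.Prelude.Def_FusionFitting
import Cfsg.Agent.GFC.Ymax
import Cfsg.Agent.GFC.CProdSub
import Cfsg.Agent.GFC.Cent

/-!
# S5309 (project GFC), part (2): every `Y ≤ C_S(U)` centralized by `D = F*(F)` in `F` lies in `Z(D)`

Assembly of `gfc_y_core` (this project), `gfc_layer_sub` and `gfc_le_center` (helper4).  The direction
"no component ⇒ constrained" of S5146 is still a hypothesis here; `Cfsg/Agent/S5309.lean` supplies it.
-/

set_option autoImplicit false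

namespace Cfsg.Agent.GFC

open Cfsg Cfsg.FusionSystem Cfsg.Agent.Lead

variable {Ω : Type*} [Group Ω] {S : Subgroup Ω}

/-- Part (2)(a)-(d): `Y ≤ Z(O_p(F))`. -/
theorem gfc_y_main [Finite S] (p : ℕ) [Fact p.Prime] (hS : IsPGroup p S) (F : FusionSystem S)
    (hF : F.IsSaturated p)
    (h46 : ∀ (C : Subgroup Ω) (D₁ : FusionSystem C), C ≤ S → D₁.IsSaturated p →
      (¬ ∃ (V : Subgroup Ω) (C' : FusionSystem V), C'.IsComponentIn D₁ p) → D₁.IsConstrained p)
    {U : Subgroup Ω} (D : FusionSystem U) (hD : D.IsGeneralizedFittingOf F p) {Y : Subgroup Ω}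
    (hY : Y ≤ centralizerIn S U) (hDY : ∀ P : Subgroup Ω, D.Hom P ⊆ F.centralizerHom Y P) :
    Y ≤ F.core ∧ Y ≤ Subgroup.centralizer (F.core : Set Ω) := by
  obtain ⟨T, E, hlay, hcp⟩ := hD
  have hQU : F.core ≤ U := gfc_cp_left_le hcp
  have hTU : T ≤ U := gfc_cp_right_le hcp
  have hYQ : Y ≤ Subgroup.centralizer (F.core : Set Ω) := fun y hy =>
    Subgroup.centralizer_le (by exact_mod_cast hQU) (hY hy).2
  have hYT : Y ≤ centralizerIn S T := fun y hy =>
    ⟨(hY hy).1, Subgroup.centralizer_le (by exact_mod_cast hTU) (hY hy).2⟩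
  have hED : E.IsSubsystemOf D := gfc_layer_sub p hS F hlay hcp
  have hEY : ∀ P : Subgroup Ω, E.Hom P ⊆ F.centralizerHom Y P := fun P φ hφ => hDY P (hED P hφ)
  exact ⟨gfc_y_core p hS F hF E hlay h46 hYT hEY hYQ, hYQ⟩

/-- Part (2) of S5309. -/
theorem gfc_part2 [Finite S] (p : ℕ) [Fact p.Prime] (hS : IsPGroup p S) (F : FusionSystem S)
    (hF : F.IsSaturated p)
    (h46 : ∀ (C : Subgroup Ω) (D₁ : FusionSystem C), C ≤ S → D₁.IsSaturated p →
      (¬ ∃ (V : Subgroup Ω) (C' : FusionSystem V), C'.IsComponentIn D₁ p) → D₁.IsConstrained p)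
    {U : Subgroup Ω} (D : FusionSystem U) (hD : D.IsGeneralizedFittingOf F p) (Y : Subgroup Ω)
    (hY : Y ≤ centralizerIn S U) (hDY : ∀ P : Subgroup Ω, D.Hom P ⊆ F.centralizerHom Y P) :
    Y ≤ D.center := by
  obtain ⟨h1, h2⟩ := gfc_y_main p hS F hF h46 D hD hY hDY
  exact gfc_le_center p hS F D hD h1 h2

end Cfsg.Agent.GFC
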